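import Mathlib

/-!
# Global functions on the fibres of a flat scheme over a Dedekind domain
-/

set_option autoImplicit false
set_option linter.style.haveILetI false
set_option backward.isDefEq.respectTransparency.types false

universe u

open CategoryTheory CategoryTheory.Limits AlgebraicGeometry TopologicalSpace
open scoped TensorProduct

noncomputable section

namespace Groth.Agent.FibGamma15

/-- A jointly injective and jointly saturated finite family stays jointly injective after tensoring. -/
theorem eq_zero_of_forall_rTensor {A : Type u} [CommRing A] [IsDedekindDomain A] {M : Type u} [AddCommGroup M]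
    [Module A M] {ι : Type u} [Finite ι] {N : ι → Type u} [∀ i, AddCommGroup (N i)] [∀ i, Module A (N i)]
    (ψ : ∀ i, M →ₗ[A] N i) (hinj : ∀ m, (∀ i, ψ i m = 0) → m = 0)
    (hsat : ∀ (a : A) (n : ∀ i, N i), a ≠ 0 → (∃ m, ∀ i, ψ i m = a • n i) → ∃ b, ∀ i, ψ i b = n i)
    (K : Type u) [AddCommGroup K] [Module A K] (x : M ⊗[A] K) (hx : ∀ i, (ψ i).rTensor K x = 0) : x = 0 := by
  classical
  haveI : Fintype ι := Fintype.ofFinite ι
  let φ : M →ₗ[A] (∀ i, N i) := LinearMap.pi ψ
  have hφ : Function.Injective φ := (injective_iff_map_eq_zero φ).2 fun m hm => hinj m fun i => congrFun hm i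
  let q := Submodule.mkQ (LinearMap.range φ)
  haveI : Module.Flat A ((∀ i, N i) ⧸ LinearMap.range φ) := by
    rw [IsDedekindDomain.flat_iff_torsion_eq_bot, eq_bot_iff]
    rintro z ⟨⟨a, ha⟩, hz⟩
    obtain ⟨n, rfl⟩ := Submodule.Quotient.mk_surjective _ z
    have hz' : a • n ∈ LinearMap.range φ := by
      rw [← Submodule.Quotient.mk_eq_zero, Submodule.Quotient.mk_smul]
      exact hz
    obtain ⟨m, hm⟩ := hz'
    obtain ⟨b, hb⟩ := hsat a n (nonZeroDivisors.ne_zero ha) ⟨m, fun i => congrFun hm i⟩
    rw [Submodule.mem_bot, Submodule.Quotient.mk_eq_zero]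
    exact ⟨b, funext hb⟩
  have hex : Function.Exact φ q := LinearMap.exact_map_mkQ_range φ
  have h := LinearMap.lTensor_injective_of_exact_of_flat q (Submodule.mkQ_surjective _) φ hφ hex K
  have key : ∀ y : M ⊗[A] K, ∀ i, (TensorProduct.piLeft (R := A) (N := K) (M := N)) (φ.rTensor K y) i = (ψ i).rTensor K y := by
    intro y i
    induction y using TensorProduct.induction_on with
    | zero => simp
    | tmul m k => simp [φ]
    | add y z hy hz => rw [map_add, map_add, Pi.add_apply, hy, hz, map_add]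
  have hz : φ.rTensor K x = 0 := (TensorProduct.piLeft (R := A) (N := K) (M := N)).injective (funext fun i => by rw [key, hx i, map_zero, Pi.zero_apply])
  have hc : φ.lTensor K ((TensorProduct.comm A M K) x) = (TensorProduct.comm A _ K) (φ.rTensor K x) := by
    clear hz hx
    induction x using TensorProduct.induction_on with
    | zero => simp
    | tmul m k => simp
    | add y z hy hz => simp [hy, hz]
  have : (TensorProduct.comm A M K) x = 0 := h (by rw [hc, hz, map_zero, map_zero])
  simpa using this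

section Scheme

variable {A : CommRingCat.{u}} (X : Scheme.{u}) (γ : A ⟶ Γ(X, ⊤))

/-- The structure map to the sections over an open. -/
def str (W : X.Opens) : A ⟶ Γ(X, W) := γ ≫ X.presheaf.map (homOfLE le_top).op

theorem str_map {W V : X.Opens} (h : V ≤ W) (a : A) :
    (X.presheaf.map (homOfLE h).op).hom ((str X γ W).hom a) = (str X γ V).hom a := by
  simp only [str, CommRingCat.hom_comp, RingHom.comp_apply]
  rw [← ConcreteCategory.comp_apply, ← X.presheaf.map_comp]
  rfl

theorem mul_eq_zero_of_flat [IsDomain A] [Flat (X.toSpecΓ ≫ Spec.map γ)] (W : X.Opens) (a : A) (ha : a ≠ 0)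
    (x : Γ(X, W)) (hx : (str X γ W).hom a * x = 0) : x = 0 := by
  refine X.IsSheaf.section_ext fun p hp => ?_
  obtain ⟨U, hU, hpU, hUW⟩ := exists_isAffineOpen_mem_and_subset hp
  refine ⟨U, hUW, hpU, ?_⟩
  rw [map_zero]
  have hf : (str X γ U).hom.Flat := by
    have h1 : Flat (hU.fromSpec ≫ X.toSpecΓ ≫ Spec.map γ) := inferInstance
    rw [IsAffineOpen.fromSpec_toSpecΓ_assoc, ← Spec.map_comp, HasRingHomProperty.Spec_iff (P := @Flat)] at h1
    exact h1
  letI := (str X γ U).hom.toAlgebra
  haveI : Module.Flat A Γ(X, U) := hf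
  have h1 := congrArg (X.presheaf.map (homOfLE hUW).op).hom hx
  rw [map_mul, map_zero] at h1
  erw [str_map X γ hUW] at h1
  exact (IsSMulRegular.of_right_eq_zero_of_smul fun y hy => by
    have := Module.Flat.isSMulRegular_of_isRegular (M := Γ(X, U)) (IsRegular.of_ne_zero ha)
    exact this.right_eq_zero_of_smul hy).right_eq_zero_of_smul h1

/-- Global sections of a flat qcqs scheme inject into the functions on the fibres. -/
theorem ker_pullback_map_eq_bot [IsDedekindDomain A] [CompactSpace X] [Flat (X.toSpecΓ ≫ Spec.map γ)]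
    {K : CommRingCat.{u}} (ρ : A ⟶ K)
    [QuasiCompact (pullback.map (X.toSpecΓ ≫ Spec.map γ) (Spec.map ρ) (Spec.map γ) (Spec.map ρ) X.toSpecΓ (𝟙 _) (𝟙 _)
      (by simp) (by simp))] :
    (pullback.map (X.toSpecΓ ≫ Spec.map γ) (Spec.map ρ) (Spec.map γ) (Spec.map ρ) X.toSpecΓ (𝟙 _) (𝟙 _)
      (by simp) (by simp)).ker = ⊥ := by
  classical
  set f := X.toSpecΓ ≫ Spec.map γ with hf
  set P := pullback (Spec.map γ) (Spec.map ρ)
  set F := pullback.map f (Spec.map ρ) (Spec.map γ) (Spec.map ρ) X.toSpecΓ (𝟙 _) (𝟙 _) (by simp [hf]) (by simp)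
  letI := γ.hom.toAlgebra
  letI := ρ.hom.toAlgebra
  refine Scheme.IdealSheafData.ext_of_isAffine (eq_bot_iff.2 fun a ha => ?_)
  rw [Scheme.Hom.ker_apply, RingHom.mem_ker] at ha
  let 𝒰 := X.affineCover.finiteSubcover
  let U : 𝒰.I₀ → X.affineOpens := fun i => ⟨(𝒰.f i).opensRange, isAffineOpen_opensRange _⟩
  have hcov : ∀ x : X, ∃ i, x ∈ (U i).1 := fun x => by
    obtain ⟨i, y, hy⟩ := 𝒰.exists_eq x
    exact ⟨i, y, hy⟩
  letI : ∀ i, Algebra A Γ(X, (U i).1) := fun i => (str X γ (U i).1).hom.toAlgebra
  let res : ∀ i, Γ(X, ⊤) →ₐ[A] Γ(X, (U i).1) := fun i =>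
    { (X.presheaf.map (homOfLE le_top).op).hom with
      commutes' := fun _ => rfl }
  let e := pullbackSpecIso A Γ(X, ⊤) K
  let z : (Γ(X, ⊤) : Type u) ⊗[A] (K : Type u) := (Scheme.ΓSpecIso _).hom.hom (e.inv.appTop.hom a)
  have key : ∀ i, Algebra.TensorProduct.map (res i) (AlgHom.id A K) z = 0 := by
    intro i
    let t : CommRingCat.of ((Γ(X, ⊤) : Type u) ⊗[A] (K : Type u)) ⟶
        CommRingCat.of ((Γ(X, (U i).1) : Type u) ⊗[A] (K : Type u)) :=
      CommRingCat.ofHom (Algebra.TensorProduct.map (res i) (AlgHom.id A K)).toRingHom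
    let eᵢ := pullbackSpecIso A Γ(X, (U i).1) K
    let Jᵢ : pullback (Spec.map (str X γ (U i).1)) (Spec.map ρ) ⟶ pullback f (Spec.map ρ) :=
      pullback.map _ _ _ _ (U i).2.fromSpec (𝟙 _) (𝟙 _) (by
        rw [Category.comp_id, hf, IsAffineOpen.fromSpec_toSpecΓ_assoc, ← Spec.map_comp]
        rfl) (by simp)
    have hsq : eᵢ.inv ≫ Jᵢ ≫ F = Spec.map t ≫ e.inv := by
      refine pullback.hom_ext ?_ ?_
      · simp only [Category.assoc, F, Jᵢ, pullback.map, pullback.lift_fst, pullback.lift_fst_assoc]
        have p1 : eᵢ.inv ≫ pullback.fst (Spec.map (str X γ (U i).1)) (Spec.map ρ) =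
            Spec.map (CommRingCat.ofHom Algebra.TensorProduct.includeLeftRingHom) := pullbackSpecIso_inv_fst _ _ _
        have p2 : e.inv ≫ pullback.fst (Spec.map γ) (Spec.map ρ) =
            Spec.map (CommRingCat.ofHom Algebra.TensorProduct.includeLeftRingHom) := pullbackSpecIso_inv_fst _ _ _
        rw [reassoc_of% p1, p2]
        erw [IsAffineOpen.fromSpec_toSpecΓ]
        erw [← Spec.map_comp, ← Spec.map_comp]
        congr 1
      · simp only [Category.assoc, F, Jᵢ, pullback.map, pullback.lift_snd, pullback.lift_snd_assoc, Category.comp_id]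
        have p1 : eᵢ.inv ≫ pullback.snd (Spec.map (str X γ (U i).1)) (Spec.map ρ) = _ := pullbackSpecIso_inv_snd _ _ _
        have p2 : e.inv ≫ pullback.snd (Spec.map γ) (Spec.map ρ) = _ := pullbackSpecIso_inv_snd _ _ _
        rw [p1, p2, ← Spec.map_comp]
        congr 1
        ext m
        simp [t]
    have h1 := congrArg (fun φ : Spec _ ⟶ P => φ.appTop.hom a) hsq
    simp only [Scheme.Hom.comp_appTop, CommRingCat.hom_comp, RingHom.comp_apply] at h1
    have ha' : F.appTop.hom a = 0 := ha
    rw [ha', map_zero, map_zero] at h1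
    have h2 := RingHom.congr_fun (congrArg CommRingCat.Hom.hom (Scheme.ΓSpecIso_naturality t)) (e.inv.appTop.hom a)
    simp only [CommRingCat.hom_comp, RingHom.comp_apply] at h2
    rw [← h1, map_zero] at h2
    exact h2.symm
  have hz : z = 0 := by
    refine eq_zero_of_forall_rTensor (ι := 𝒰.I₀) (fun i => (res i).toLinearMap) ?_ ?_ K z fun i => ?_
    · intro m hm
      refine X.IsSheaf.section_ext fun p _ => ?_
      obtain ⟨i, hi⟩ := hcov p
      exact ⟨(U i).1, le_top, hi, by rw [map_zero]; exact hm i⟩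
    · rintro a' n ha' ⟨m, hm⟩
      have hcomp : TopCat.Presheaf.IsCompatible X.presheaf (fun i => (U i).1) n := by
        intro i j
        refine sub_eq_zero.1 (mul_eq_zero_of_flat X γ _ a' ha' _ ?_)
        show (str X γ ((U i).1 ⊓ (U j).1)).hom a' * ((X.presheaf.map (homOfLE inf_le_left).op).hom (n i) -
          (X.presheaf.map (homOfLE inf_le_right).op).hom (n j)) = 0
        rw [mul_sub]
        have e1 : ∀ k (h : (U i).1 ⊓ (U j).1 ≤ (U k).1), (str X γ ((U i).1 ⊓ (U j).1)).hom a' * (X.presheaf.map (homOfLE h).op).hom (n k) =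
            (X.presheaf.map (homOfLE le_top).op).hom m := fun k h => by
          rw [← str_map X γ h, ← map_mul]
          rw [show (str X γ (U k).1).hom a' * n k = (X.presheaf.map (homOfLE le_top).op).hom m from (hm k).symm]
          rw [← ConcreteCategory.comp_apply, ← X.presheaf.map_comp]
          rfl
        rw [e1 i inf_le_left, e1 j inf_le_right, sub_self]
      obtain ⟨b, hb, -⟩ := X.sheaf.existsUnique_gluing' (fun i => (U i).1) ⊤ (fun i => homOfLE le_top)
        (fun p _ => Opens.mem_iSup.2 (hcov p)) n hcomp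
      exact ⟨b, hb⟩
    · have hr : ∀ y : (Γ(X, ⊤) : Type u) ⊗[A] (K : Type u),
          (res i).toLinearMap.rTensor K y = Algebra.TensorProduct.map (res i) (AlgHom.id A K) y := fun y => by
        induction y using TensorProduct.induction_on with
        | zero => simp
        | tmul m k => simp
        | add y z hy hz => simp [hy, hz]
      rw [hr]
      exact key i
  have hinj : Function.Injective (fun x => (Scheme.ΓSpecIso _).hom.hom (e.inv.appTop.hom x)) :=
    (ConcreteCategory.bijective_of_isIso (Scheme.ΓSpecIso _).hom).1.comp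
      (Function.LeftInverse.injective (g := e.hom.appTop.hom) fun x => by
        rw [← RingHom.comp_apply, ← CommRingCat.hom_comp, ← Scheme.Hom.comp_appTop, e.hom_inv_id,
          Scheme.Hom.id_appTop]
        rfl)
  exact hinj (show z = _ by rw [hz]; simp)

end Scheme

end Groth.Agent.FibGamma15
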